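import Groth.Agent.AbSchExt.LocalLift
import Groth.Agent.SGA7.ConstPoints
import Groth.Agent.AlgSp2.SigmaGlue
import Groth.Agent.Reductive.MultGa
import Groth.Prelude.Def_CGrpSh

/-!
Homomorphisms out of a lattice lift locally along epimorphisms of fppf sheaves.
-/

set_option autoImplicit false
set_option linter.style.haveILetI false
set_option maxHeartbeats 1000000
set_option synthInstance.maxHeartbeats 200000

universe u

open CategoryTheory CategoryTheory.Limits Opposite MonoidalCategory CartesianMonoidalCategory MonObj AlgebraicGeometry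
open Groth.AbSchBiext Groth.SGA7.ConstPoints

noncomputable section

namespace Groth.AbSchExt

variable {S : Scheme.{u}}

/-- A jointly surjective family of flat maps locally of finite presentation onto `T` generates a cover. -/
theorem mem_J_of_family (T : Over S) {κ : Type u} {Y : κ → Scheme.{u}} (k : ∀ i, Y i ⟶ T.left)
    (hk : ∀ i, Flat (k i) ∧ LocallyOfFinitePresentation (k i)) (hsurj : ∀ x, ∃ i, x ∈ Set.range (k i)) :
    (Sieve.overEquiv T).symm (Sieve.generate (Presieve.ofArrows Y k)) ∈ (QuotSh.J Scheme.fppfPrecoverage S) T := by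
  refine GrothendieckTopology.overEquiv_symm_mem_over _ _ _ ?_
  refine Precoverage.generate_mem_toGrothendieck ?_
  exact (Scheme.ofArrows_mem_precoverage_iff _).2 ⟨hsurj, hk⟩

/-- Finitely many sections of the target of an epimorphism lift on one cover. -/
theorem exists_lift_family {I Z : BigSite.Ab Scheme.fppfPrecoverage S} (e : I ⟶ Z) [Epi e] {U : Over S}
    {κ : Type*} (s : Finset κ) (z : κ → Z.obj.obj (op U)) :
    ∃ R ∈ (QuotSh.J Scheme.fppfPrecoverage S) U, ∀ ⦃W : Over S⦄ (k : W ⟶ U), R k → ∀ i ∈ s, ∃ p, e.hom.app (op W) p = Z.obj.map k.op (z i) := by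
  classical
  haveI : Sheaf.IsLocallySurjective e := (Sheaf.isLocallySurjective_iff_epi' (A := AddCommGrpCat.{u + 1}) e).2 inferInstance
  induction s using Finset.induction with
  | empty => exact ⟨⊤, GrothendieckTopology.top_mem _ U, fun W k _ i hi => absurd hi (Finset.notMem_empty i)⟩
  | insert a s _ ih =>
    obtain ⟨R, hR, h⟩ := ih
    refine ⟨R ⊓ Presheaf.imageSieve e.hom (z a), GrothendieckTopology.intersection_covering _ hR
      (Presheaf.imageSieve_mem _ e.hom (z a)), fun W k hk i hi => ?_⟩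
    rcases Finset.mem_insert.1 hi with rfl | hi
    · exact hk.2
    · exact h k hk.1 i hi

/-- Degree data of a lattice over `U`: sections are the locally constant maps to `ℤ^r`. -/
structure Basis (Q : BigSite.Ab Scheme.fppfPrecoverage S) (U : Over S) (r : ℕ) where
  deg : ∀ (V : Over S), (V ⟶ U) → Q.obj.obj (op V) → V.left → (Fin r → ℤ)
  deg_add : ∀ V g x y t, deg V g (x + y) t = deg V g x t + deg V g y t
  deg_map : ∀ {V W : Over S} (k : W ⟶ V) g x t, deg W (k ≫ g) (Q.obj.map k.op x) t = deg V g x (k.left t)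
  locallyConstant : ∀ V g x, IsLocallyConstant (deg V g x)
  gen : Fin r → Q.obj.obj (op U)
  deg_gen : ∀ i t, deg U (𝟙 U) (gen i) t = Pi.single i 1
  deg_inj : ∀ V g x y, deg V g x = deg V g y → x = y

variable {Q : BigSite.Ab Scheme.fppfPrecoverage S} {U : Over S} {r : ℕ}

theorem Basis.deg_map_gen (b : Basis Q U r) {V : Over S} (g : V ⟶ U) (i : Fin r) (t : V.left) :
    b.deg V g (Q.obj.map g.op (b.gen i)) t = Pi.single i 1 := by
  conv_lhs => rw [← Category.comp_id g]
  rw [show Q.obj.map (g ≫ 𝟙 U).op (b.gen i) = Q.obj.map g.op (b.gen i) by rw [Category.comp_id],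
    b.deg_map, b.deg_gen]

theorem Basis.eq_sum (b : Basis Q U r) {V : Over S} (g : V ⟶ U) (x : Q.obj.obj (op V)) (m : Fin r → ℤ)
    (hm : ∀ t, b.deg V g x t = m) : x = ∑ i, m i • Q.obj.map g.op (b.gen i) := by
  refine b.deg_inj V g _ _ (funext fun t => ?_)
  let D : Q.obj.obj (op V) →+ (Fin r → ℤ) := AddMonoidHom.mk' (fun y => b.deg V g y t) fun y y' => b.deg_add V g y y' t
  show _ = D _
  rw [map_sum, hm]
  simp only [map_zsmul, D, AddMonoidHom.mk'_apply, b.deg_map_gen]
  funext j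
  simp [Finset.sum_apply, Pi.single_apply]

open Groth.AlgSp2 in
/-- A section over an empty scheme is zero. -/
theorem eq_of_isEmpty (F : BigSite.Ab Scheme.fppfPrecoverage S) (W : Over S) [IsEmpty W.left] (x y : F.obj.obj (op W)) :
    x = y :=
  ab_ext_of_cover F (R := ⊥) (bot_mem_of_isEmpty W) fun _ _ h => h.elim

/-- A homomorphism out of a based lattice with prescribed values on the basis. -/
theorem exists_hom_of_basis (b : Basis Q U r) {W : Over S} (k : W ⟶ U) (I : BigSite.Ab Scheme.fppfPrecoverage S)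
    (p : Fin r → I.obj.obj (op W)) :
    ∃ ψ : Q.over W ⟶ I.over W, ∀ (V : Over S) (h : V ⟶ W) (m : Fin r → ℤ) (x : Q.obj.obj (op V)),
      (∀ t, b.deg V (h ≫ k) x t = m) → val ψ V h x = ∑ i, m i • I.obj.map h.op (p i) := by
  classical
  have key : ∀ (V : Over S) (h : V ⟶ W) (x : Q.obj.obj (op V)), ∃ y : I.obj.obj (op V),
      ∀ (V' : Over S) (g : V' ⟶ V) (m : Fin r → ℤ), (∀ t, b.deg V (h ≫ k) x (g.left t) = m) →
        I.obj.map g.op y = ∑ i, m i • I.obj.map (g ≫ h).op (p i) := by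
    intro V h x
    let pr : ∀ ⦃V' : Over S⦄, (V' ⟶ V) → I.obj.obj (op V') → Prop := fun V' g y =>
      ∃ m : Fin r → ℤ, (∀ t, b.deg V (h ≫ k) x (g.left t) = m) ∧ y = ∑ i, m i • I.obj.map (g ≫ h).op (p i)
    have hpr : ∀ ⦃V' : Over S⦄ (g : V' ⟶ V) (y y' : I.obj.obj (op V')), pr g y → pr g y' → y = y' := by
      rintro V' g y y' ⟨m, hm, rfl⟩ ⟨m', hm', rfl⟩
      rcases isEmpty_or_nonempty V'.left with he | ⟨⟨t⟩⟩
      · exact eq_of_isEmpty I V' _ _
      · rw [(hm t).symm.trans (hm' t)]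
    have hres : ∀ ⦃V' V'' : Over S⦄ (g' : V'' ⟶ V') (g : V' ⟶ V) (y : I.obj.obj (op V')), pr g y →
        pr (g' ≫ g) (I.obj.map g'.op y) := by
      rintro V' V'' g' g y ⟨m, hm, rfl⟩
      refine ⟨m, fun t => hm (g'.left t), ?_⟩
      rw [map_sum]
      refine Finset.sum_congr rfl fun i _ => ?_
      rw [map_zsmul, map_map, Category.assoc]
    let O : V.left → V.left.Opens := fun t => ⟨{t' | b.deg V (h ≫ k) x t' = b.deg V (h ≫ k) x t},
      (b.locallyConstant V (h ≫ k) x) {b.deg V (h ≫ k) x t}⟩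
    have hR := mem_J_of_family V (fun t => (O t).ι) (fun t => ⟨inferInstance, inferInstance⟩)
      (fun t => ⟨t, ⟨t, rfl⟩, rfl⟩)
    obtain ⟨y, hy⟩ := exists_glue_unique (Biext.uSh (QuotSh.J Scheme.fppfPrecoverage S) I) pr hres hpr _ hR (fun V' g hg => by
      obtain ⟨Y, a, _, ⟨t⟩, hag⟩ := hg
      refine ⟨_, b.deg V (h ≫ k) x t, fun t' => ?_, rfl⟩
      rw [show g.left t' = (O t).ι (a t') from (congrArg (fun q => q t') hag).symm.trans (by rfl)]
      exact (a t').2)
    refine ⟨y, fun V' g m hm => ?_⟩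
    refine ab_ext_of_cover I ((QuotSh.J Scheme.fppfPrecoverage S).pullback_stable g hR) fun V'' g' hg' => ?_
    refine hpr (g' ≫ g) _ _ ?_ (hres g' g _ ⟨m, hm, rfl⟩)
    rw [map_map]
    exact hy (g' ≫ g) hg'
  choose v hv using key
  have hcover : ∀ (V : Over S) (h : V ⟶ W) (x y : Q.obj.obj (op V)), ∃ R ∈ (QuotSh.J Scheme.fppfPrecoverage S) V, ∀ ⦃V' : Over S⦄ (g : V' ⟶ V), R g →
      ∃ m m' : Fin r → ℤ, (∀ t, b.deg V (h ≫ k) x (g.left t) = m) ∧ ∀ t, b.deg V (h ≫ k) y (g.left t) = m' := by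
    intro V h x y
    let O : V.left → V.left.Opens := fun t =>
      ⟨{t' | b.deg V (h ≫ k) x t' = b.deg V (h ≫ k) x t} ∩ {t' | b.deg V (h ≫ k) y t' = b.deg V (h ≫ k) y t},
        ((b.locallyConstant V (h ≫ k) x) {b.deg V (h ≫ k) x t}).inter
          ((b.locallyConstant V (h ≫ k) y) {b.deg V (h ≫ k) y t})⟩
    refine ⟨_, mem_J_of_family V (fun t => (O t).ι) (fun t => ⟨inferInstance, inferInstance⟩)
      (fun t => ⟨t, ⟨t, rfl, rfl⟩, rfl⟩), fun V' g hg => ?_⟩
    obtain ⟨Y, a, _, ⟨t⟩, hag⟩ := hg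
    have ht : ∀ t', g.left t' = (O t).ι (a t') := fun t' => (congrArg (fun q => q t') hag).symm.trans (by rfl)
    exact ⟨_, _, fun t' => by rw [ht]; exact (a t').2.1, fun t' => by rw [ht]; exact (a t').2.2⟩
  refine ⟨mkHom v (fun V h x y => ?_) (fun V V' g h x => ?_), fun V h m x hm => ?_⟩
  · obtain ⟨R, hR, hloc⟩ := hcover V h x y
    refine ab_ext_of_cover I hR fun V' g hg => ?_
    obtain ⟨m, m', hm, hm'⟩ := hloc g hg
    rw [map_add, hv V h x V' g m hm, hv V h y V' g m' hm',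
      hv V h (x + y) V' g (m + m') (fun t => by rw [b.deg_add, hm, hm']), ← Finset.sum_add_distrib]
    simp only [Pi.add_apply, add_smul]
  · obtain ⟨R, hR, hloc⟩ := hcover V' (g ≫ h) (Q.obj.map g.op x) (Q.obj.map g.op x)
    refine ab_ext_of_cover I hR fun V'' g' hg' => ?_
    obtain ⟨m, -, hm, -⟩ := hloc g' hg'
    rw [hv V' (g ≫ h) _ V'' g' m hm, map_map, hv V h x V'' (g' ≫ g) m (fun t => by
      rw [← hm t, Category.assoc, b.deg_map g (h ≫ k) x]; rfl)]
    simp only [Category.assoc]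
  · have h1 := hv V h x V (𝟙 V) m (fun t => hm t)
    rw [Category.id_comp] at h1
    refine Eq.trans ?_ h1
    rw [op_id, I.obj.map_id]
    rfl

/-- Homomorphisms out of a sheaf with bases locally lift locally. -/
theorem liftsLocally_of_basis (hQ : ∀ T : Over S, ∃ R ∈ (QuotSh.J Scheme.fppfPrecoverage S) T, ∀ ⦃U : Over S⦄ (f : U ⟶ T), R f →
    ∃ r, Nonempty (Basis Q U r)) : LiftsLocally Q := by
  intro I Z e he T φ
  obtain ⟨R, hR, hb⟩ := hQ T
  have key : ∀ ⦃U : Over S⦄ (f : U ⟶ T), R f → ∃ R' ∈ (QuotSh.J Scheme.fppfPrecoverage S) U, ∀ ⦃W : Over S⦄ (k : W ⟶ U), R' k →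
      ∃ ψ : Q.over W ⟶ I.over W, ∀ (V : Over S) (h : V ⟶ W) (x : Q.obj.obj (op V)),
        e.hom.app (op V) (val ψ V h x) = val φ V (h ≫ k ≫ f) x := by
    intro U f hf
    obtain ⟨r, ⟨b⟩⟩ := hb f hf
    obtain ⟨R', hR', hl⟩ := exists_lift_family e Finset.univ (fun i => val φ U f (b.gen i))
    refine ⟨R', hR', fun W k hk => ?_⟩
    choose p hp using fun i => hl k hk i (Finset.mem_univ i)
    obtain ⟨ψ, hψ⟩ := exists_hom_of_basis b k I p
    refine ⟨ψ, fun V h x => ?_⟩
    let O : V.left → V.left.Opens := fun t => ⟨{t' | b.deg V (h ≫ k) x t' = b.deg V (h ≫ k) x t},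
      (b.locallyConstant V (h ≫ k) x) {b.deg V (h ≫ k) x t}⟩
    refine ab_ext_of_cover Z (mem_J_of_family V (fun t => (O t).ι) (fun t => ⟨inferInstance, inferInstance⟩)
      (fun t => ⟨t, ⟨t, rfl⟩, rfl⟩)) fun V' g hg => ?_
    obtain ⟨Y, a, _, ⟨t⟩, hag⟩ := hg
    have hm : ∀ t', b.deg V' (g ≫ h ≫ k) (Q.obj.map g.op x) t' = b.deg V (h ≫ k) x t := fun t' => by
      rw [b.deg_map g (h ≫ k) x t', show g.left t' = (O t).ι (a t') from (congrArg (fun q => q t') hag).symm.trans (by rfl)]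
      exact (a t').2
    have hx := b.eq_sum (g ≫ h ≫ k) _ _ hm
    refine ((ConcreteCategory.congr_hom (e.hom.naturality g.op) _).symm).trans ?_
    show e.hom.app (op V') (I.obj.map g.op (val ψ V h x)) = _
    rw [val_map, val_map, hψ V' (g ≫ h) _ _ (fun t' => by rw [Category.assoc]; exact hm t'), map_sum]
    rw [hx]
    let Φ : Q.obj.obj (op V') →+ Z.obj.obj (op V') :=
      AddMonoidHom.mk' (val φ V' (g ≫ h ≫ k ≫ f)) (val_add φ V' (g ≫ h ≫ k ≫ f))
    show _ = Φ _
    rw [map_sum]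
    refine Finset.sum_congr rfl fun i _ => ?_
    rw [map_zsmul, map_zsmul]
    congr 1
    refine (ConcreteCategory.congr_hom (e.hom.naturality (g ≫ h).op) (p i)).trans ?_
    show Z.obj.map (g ≫ h).op (e.hom.app (op W) (p i)) = _
    rw [hp, map_map, val_map]
    show _ = val φ V' _ _
    simp only [Category.assoc]
  choose R' hR' hψ using key
  refine ⟨Sieve.bind R.arrows R', GrothendieckTopology.bind_covering _ hR fun U f hf => hR' f hf, fun W w hw => ?_⟩
  obtain ⟨U, k, f, hf, hk, rfl⟩ := hw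
  exact hψ f hf k hk

section Const

variable {S' : Scheme.{u}}

/-- A constant group indexed by a small type is one indexed by a type in the universe of the schemes. -/
theorem exists_ulift_const {M : Type} [Group M] {G : Over S'} [GrpObj G] {e : G ≅ TwC.const S' M}
    (he : TwC.IsConstGrp M G e) : ∃ e' : G ≅ TwC.const S' (ULift.{u} M), TwC.IsConstGrp (ULift.{u} M) G e' := by
  let u' : TwC.const S' M ≅ TwC.const S' (ULift.{u} M) :=
    ⟨TwC.constMap S' ULift.up, TwC.constMap S' ULift.down, Over.OverMorphism.ext (Sigma.hom_ext _ _ fun m => by simp [TwC.constMap]),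
      Over.OverMorphism.ext (Sigma.hom_ext _ _ fun m => by simp [TwC.constMap])⟩
  have hpt : ∀ m : ULift.{u} M, TwC.pt S' (ULift.{u} M) m ≫ (e ≪≫ u').inv = TwC.pt S' M m.down ≫ e.inv := fun m => by
    rw [Iso.trans_inv, ← Category.assoc]
    congr 1
    exact Over.OverMorphism.ext (by simp [TwC.pt, TwC.constMap, u'])
  exact ⟨e ≪≫ u', fun m n => by rw [hpt, hpt, hpt]; exact he m.down n.down⟩

/-- An etale locally constant free group has bases locally. -/
theorem exists_basis_locally (X : Over S) [GrpObj X] [IsCommMonObj X]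
    (hX : TwC.Locally S TwC.Topology.etale (fun S' f =>
      ∃ (r : ℕ) (e : Red.bc f X ≅ TwC.const S' (Multiplicative (Fin r → ℤ))),
        TwC.IsConstGrp (Multiplicative (Fin r → ℤ)) (Red.bc f X) e)) (T : Over S) :
    ∃ R ∈ (QuotSh.J Scheme.fppfPrecoverage S) T, ∀ ⦃U : Over S⦄ (f : U ⟶ T), R f →
      ∃ r, Nonempty (Basis (CGrpSh.pts Scheme.fppfPrecoverage X) U r) := by
  choose S' f het hs hP using hX
  let k : ∀ x : T.left, pullback T.hom (f (T.hom x)) ⟶ T.left := fun x => pullback.fst _ _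
  refine ⟨_, mem_J_of_family T k (fun x => ?_) (fun x => ?_), fun U g hg => ?_⟩
  · haveI := het (T.hom x)
    haveI : Etale (k x) := MorphismProperty.pullback_fst _ _ inferInstance
    exact ⟨inferInstance, inferInstance⟩
  · obtain ⟨z, hz⟩ := hs (T.hom x)
    obtain ⟨w, hw, -⟩ := Scheme.Pullback.exists_preimage_pullback x z hz.symm
    exact ⟨x, w, hw⟩
  obtain ⟨Y, a, _, ⟨x⟩, hag⟩ := hg
  obtain ⟨r, e₀, he₀⟩ := hP (T.hom x)
  obtain ⟨e, he⟩ := exists_ulift_const he₀
  let p := f (T.hom x)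
  let h : U.left ⟶ S' (T.hom x) := a ≫ pullback.snd _ _
  have hh : h ≫ p = U.hom := by
    show (a ≫ pullback.snd T.hom p) ≫ p = U.hom
    rw [Category.assoc, ← pullback.condition, ← Category.assoc]
    exact (congrArg (· ≫ T.hom) hag).trans (Over.w g)
  let Y' : ∀ V : Over S, (V ⟶ U) → Over (S' (T.hom x)) := fun V c => Over.mk (c.left ≫ h)
  let c' : ∀ (V : Over S) (c : V ⟶ U), (Over.map p).obj (Y' V c) ⟶ V := fun V c =>
    Over.homMk (𝟙 _) (by
      show 𝟙 _ ≫ V.hom = (c.left ≫ h) ≫ p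
      rw [Category.id_comp, Category.assoc, hh, Over.w c])
  let c'' : ∀ (V : Over S) (c : V ⟶ U), V ⟶ (Over.map p).obj (Y' V c) := fun V c =>
    Over.homMk (𝟙 _) (by
      show 𝟙 _ ≫ (c.left ≫ h) ≫ p = V.hom
      rw [Category.id_comp, Category.assoc, hh, Over.w c])
  have hcc : ∀ V c, c'' V c ≫ c' V c = 𝟙 V := fun V c => Over.OverMorphism.ext (Category.id_comp _)
  let pp : ∀ (V : Over S) (c : V ⟶ U), (CGrpSh.pts Scheme.fppfPrecoverage X).obj.obj (op V) → (Y' V c ⟶ Red.bc p X) :=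
    fun V c y => (Groth.Reductive.bcPointEquiv p X (Y' V c)).symm (c' V c ≫ y.down.toMul)
  have hdm : ∀ {V W : Over S} (j : W ⟶ V) (c : V ⟶ U) (y : (CGrpSh.pts Scheme.fppfPrecoverage X).obj.obj (op V)) t,
      ix e (pp W (j ≫ c) ((CGrpSh.pts Scheme.fppfPrecoverage X).obj.map j.op y)) t = ix e (pp V c y) (j.left t) := by
    intro V W j c y t
    let j' : Y' W (j ≫ c) ⟶ Y' V c := Over.homMk j.left (by simp [Y'])
    have h1 : pp W (j ≫ c) ((CGrpSh.pts Scheme.fppfPrecoverage X).obj.map j.op y) = j' ≫ pp V c y := by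
      apply (Groth.Reductive.bcPointEquiv p X (Y' W (j ≫ c))).injective
      rw [Groth.Reductive.bcPointEquiv_comp]
      simp only [pp, MulEquiv.apply_symm_apply]
      show c' W (j ≫ c) ≫ j ≫ y.down.toMul = (Over.map p).map j' ≫ c' V c ≫ y.down.toMul
      rw [← Category.assoc, ← Category.assoc]
      congr 1
    rw [h1]
    exact ix_comp j' _ t
  refine ⟨r, ⟨{
    deg := fun V c y t => (ix e (pp V c y) t).down.toAdd
    deg_add := fun V c y z t => ?_
    deg_map := fun j c y t => congrArg (fun m => m.down.toAdd) (hdm j c y t)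
    locallyConstant := fun V c y => (isLocallyConstant_ix (e := e) (pp V c y)).comp (fun m : ULift.{u} (Multiplicative (Fin r → ℤ)) => m.down.toAdd)
    gen := fun i => ⟨Additive.ofMul (c'' U (𝟙 U) ≫ Groth.Reductive.bcPointEquiv p X (Y' U (𝟙 U))
      (toUnit _ ≫ TwC.pt _ _ (ULift.up (Multiplicative.ofAdd (Pi.single i 1))) ≫ e.inv))⟩
    deg_gen := fun i t => ?_
    deg_inj := fun V c y z hyz => ?_ }⟩⟩
  · have h1 : pp V c (y + z) = pp V c y * pp V c z := by
      show (Groth.Reductive.bcPointEquiv p X _).symm (c' V c ≫ (y.down.toMul * z.down.toMul)) = _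
      rw [MonObj.comp_mul, _root_.map_mul]
    show (ix e (pp V c (y + z)) t).down.toAdd = _
    rw [h1, ix_mul he]
    rfl
  · show (ix e ((Groth.Reductive.bcPointEquiv p X _).symm (c' U (𝟙 U) ≫ c'' U (𝟙 U) ≫ _)) t).down.toAdd = _
    rw [← Category.assoc, show c' U (𝟙 U) ≫ c'' U (𝟙 U) = 𝟙 _ from Over.OverMorphism.ext (Category.id_comp _),
      Category.id_comp, MulEquiv.symm_apply_apply, ix_pt]
    rfl
  · have h1 : ix e (pp V c y) = ix e (pp V c z) := funext fun t =>
      ULift.ext _ _ (Multiplicative.toAdd.injective (congrFun hyz t))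
    have h2 : c' V c ≫ y.down.toMul = c' V c ≫ z.down.toMul :=
      (Groth.Reductive.bcPointEquiv p X (Y' V c)).symm.injective (ix_ext h1)
    have h3 := c'' V c ≫= h2
    rw [← Category.assoc, ← Category.assoc, hcc, Category.id_comp, Category.id_comp] at h3
    exact ULift.ext _ _ (congrArg Additive.ofMul h3)

/-- The first Ext sheaf of a lattice vanishes. -/
theorem isZero_extSh_one_lattice (X : Over S) [GrpObj X] [IsCommMonObj X]
    (hX : TwC.Locally S TwC.Topology.etale (fun S' f =>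
      ∃ (r : ℕ) (e : Red.bc f X ≅ TwC.const S' (Multiplicative (Fin r → ℤ))),
        TwC.IsConstGrp (Multiplicative (Fin r → ℤ)) (Red.bc f X) e)) (G : BigSite.Ab Scheme.fppfPrecoverage S) :
    IsZero ((HomSh.extSh (QuotSh.J Scheme.fppfPrecoverage S) (CGrpSh.pts Scheme.fppfPrecoverage X) 1).obj G) :=
  isZero_extSh_one (liftsLocally_of_basis (exists_basis_locally X hX)) G

end Const

end Groth.AbSchExt
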