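import Groth.Agent.AbSchBiext.Main

/-!
Vanishing of the first Ext sheaf from local lifting of homomorphisms.
-/

set_option autoImplicit false
set_option backward.isDefEq.respectTransparency false
set_option linter.style.haveILetI false
set_option maxHeartbeats 1000000
set_option synthInstance.maxHeartbeats 200000

universe u

open CategoryTheory Opposite Limits Groth.AbSchBiext

namespace Groth.AbSchExt

variable {C : Type (u + 1)} [Category.{u} C] {J : GrothendieckTopology C}
  [HasSheafify J AddCommGrpCat.{u + 1}] [J.WEqualsLocallyBijective AddCommGrpCat.{u + 1}]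

/-- Homomorphisms out of `Q` lift locally along epimorphisms of sheaves. -/
def LiftsLocally (Q : Sheaf J AddCommGrpCat.{u + 1}) : Prop :=
  ∀ {I Z : Sheaf J AddCommGrpCat.{u + 1}} (e : I ⟶ Z), Epi e → ∀ (T : C) (φ : Q.over T ⟶ Z.over T),
    ∃ R ∈ J T, ∀ ⦃U : C⦄ (f : U ⟶ T), R f → ∃ ψ : Q.over U ⟶ I.over U,
      ∀ (V : C) (h : V ⟶ U) (x : Q.obj.obj (op V)), e.hom.app (op V) (val ψ V h x) = val φ V (h ≫ f) x

/-- If homomorphisms out of `Q` lift locally, the first Ext sheaf of `Q` vanishes. -/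
theorem isZero_extSh_one [HasInjectiveResolutions (Sheaf J AddCommGrpCat.{u + 1})]
    {Q : Sheaf J AddCommGrpCat.{u + 1}} (hQ : LiftsLocally Q) (G : Sheaf J AddCommGrpCat.{u + 1}) :
    IsZero ((HomSh.extSh J Q 1).obj G) := by
  rw [HomSh.extSh_def]
  let F := HomSh.homShFunctor J Q
  let I := injectiveResolution G
  refine IsZero.of_iso ?_ (I.isoRightDerivedObj F 1)
  let K := (F.mapHomologicalComplex (ComplexShape.up ℕ)).obj I.cocomplex
  show IsZero (K.homology 1)
  rw [← HomologicalComplex.exactAt_iff_isZero_homology, K.exactAt_iff' 0 1 2 (by simp) (by simp),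
    ShortComplex.exact_iff_epi_kernel_lift]
  have hI : (ShortComplex.mk (I.cocomplex.d 0 1) (I.cocomplex.d 1 2) (I.cocomplex.d_comp_d 0 1 2)).Exact :=
    (HomologicalComplex.exactAt_iff' _ 0 1 2 (by simp) (by simp)).1 (I.cocomplex_exactAt_succ 0)
  let d1 := I.cocomplex.d 1 2
  let e := kernel.lift d1 (I.cocomplex.d 0 1) (I.cocomplex.d_comp_d 0 1 2)
  haveI : Epi e := hI.epi_kernelLift
  let d0' : F.obj (I.cocomplex.X 0) ⟶ F.obj (I.cocomplex.X 1) := F.map (I.cocomplex.d 0 1)
  let d1' : F.obj (I.cocomplex.X 1) ⟶ F.obj (I.cocomplex.X 2) := F.map d1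
  have w : d0' ≫ d1' = 0 := by
    rw [← F.map_comp, I.cocomplex.d_comp_d, F.map_zero]
  show Epi (kernel.lift d1' d0' w)
  haveI : Sheaf.IsLocallySurjective (kernel.lift d1' d0' w) := ⟨fun {T} z => by
    let φ := (kernel.ι d1').hom.app (op T) z
    have hφ : d1'.hom.app (op T) φ = 0 :=
      ConcreteCategory.congr_hom (congrArg (fun m : kernel d1' ⟶ F.obj (I.cocomplex.X 2) => m.hom.app (op T)) (kernel.condition d1')) z
    have hv : ∀ (V : C) (h : V ⟶ T) (x : Q.obj.obj (op V)),
        d1.hom.app (op V) (val (φ : Q.over T ⟶ (I.cocomplex.X 1).over T) V h x) = 0 := fun V h x => by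
      rw [← val_comp d1 φ V h x]
      exact congrArg (fun m : Q.over T ⟶ (I.cocomplex.X 2).over T => val m V h x) hφ
    choose v hv' using fun V h x =>
      exists_section_of_isKernel (kernel.condition d1) (kernelIsKernel d1) V _ (hv V h x)
    have hinj : ∀ V : C, Function.Injective ((kernel.ι d1).hom.app (op V)) := fun V => by
      haveI : Mono ((sheafToPresheaf J AddCommGrpCat.{u + 1} ⋙
        (evaluation Cᵒᵖ AddCommGrpCat.{u + 1}).obj (op V)).map (kernel.ι d1)) := inferInstance
      exact (AddCommGrpCat.mono_iff_injective _).1 this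
    let φ' : Q.over T ⟶ (kernel d1).over T := mkHom v
      (fun V h x x' => hinj V (by rw [map_add, hv', hv', hv', val_add]))
      (fun U V g h x => hinj V (by
        rw [hv']
        refine ((ConcreteCategory.congr_hom ((kernel.ι d1).hom.naturality g.op) (v U h x)).trans ?_)
        show (I.cocomplex.X 1).obj.map g.op ((kernel.ι d1).hom.app (op U) (v U h x)) = _
        rw [hv', val_map]))
    obtain ⟨R, hR, hlift⟩ := hQ e inferInstance T φ'
    refine J.superset_covering (fun U f hf => ?_) hR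
    obtain ⟨ψ, hψ⟩ := hlift f hf
    refine ⟨ψ, ?_⟩
    haveI : Mono ((sheafToPresheaf J AddCommGrpCat.{u + 1} ⋙
      (evaluation Cᵒᵖ AddCommGrpCat.{u + 1}).obj (op U)).map (kernel.ι d1')) := inferInstance
    refine (AddCommGrpCat.mono_iff_injective _).1 this ?_
    refine (ConcreteCategory.congr_hom (congrArg (fun m : F.obj (I.cocomplex.X 0) ⟶ F.obj (I.cocomplex.X 1) => m.hom.app (op U)) (kernel.lift_ι d1' d0' w)) ψ).trans ?_
    refine Eq.trans ?_ (ConcreteCategory.congr_hom ((kernel.ι d1').hom.naturality f.op) z).symm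
    refine val_ext (Q := Q) (X := I.cocomplex.X 1) fun V h x => ?_
    refine (val_comp (I.cocomplex.d 0 1) ψ V h x).trans ?_
    refine Eq.trans ?_ (val_res f φ V h x).symm
    rw [← hv' V (h ≫ f) x, show v V (h ≫ f) x = val φ' V (h ≫ f) x from rfl, ← hψ V h x]
    exact (ConcreteCategory.congr_hom (congrArg (fun m : I.cocomplex.X 0 ⟶ I.cocomplex.X 1 => m.hom.app (op V))
      (kernel.lift_ι d1 (I.cocomplex.d 0 1) (I.cocomplex.d_comp_d 0 1 2))) _).symm⟩
  exact (Sheaf.isLocallySurjective_iff_epi' (A := AddCommGrpCat.{u + 1}) _).1 inferInstance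

end Groth.AbSchExt
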